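import Mathlib

/-!
Linear algebra over the field with thirteen elements for the Weyl group of type E7.
-/

set_option autoImplicit false
set_option maxHeartbeats 1000000
set_option linter.unusedSectionVars false

namespace CfsgLib.Chev.E7SixtyFive

open Matrix Module

local instance eFactPrime1 : Fact (Nat.Prime 13) := ⟨by norm_num⟩

/-- The field with thirteen elements. -/
local notation "𝕂" => ZMod 13

theorem coprime_card_GL : ∀ n ≤ 3, Nat.Coprime 5 (∏ i : Fin n, (13 ^ n - 13 ^ i.1)) := by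
  decide +kernel

/-- An element of order five needs four dimensions. -/
theorem eq_one_of_pow_five {W : Type*} [AddCommGroup W] [Module 𝕂 W] [Module.Finite 𝕂 W]
    (h : Module.End 𝕂 W) (h5 : h ^ 5 = 1) (hd : finrank 𝕂 W ≤ 3) : h = 1 := by
  classical
  set e := LinearMap.toMatrixAlgEquiv (Module.finBasis 𝕂 W)
  have he : e h ^ 5 = 1 := by rw [← map_pow, h5, map_one]
  let u : GL (Fin (finrank 𝕂 W)) 𝕂 := Units.ofPowEqOne _ 5 he (by norm_num)
  have hu5 : u ^ 5 = 1 := Units.pow_ofPowEqOne _ _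
  have hc : Nat.card (GL (Fin (finrank 𝕂 W)) 𝕂) =
      ∏ i : Fin (finrank 𝕂 W), (13 ^ finrank 𝕂 W - 13 ^ i.1) := by
    rw [Matrix.card_GL_field, ZMod.card]
  have h1 : orderOf u ∣ Nat.gcd 5 (Nat.card (GL (Fin (finrank 𝕂 W)) 𝕂)) :=
    Nat.dvd_gcd (orderOf_dvd_of_pow_eq_one hu5) (orderOf_dvd_natCard u)
  rw [hc, (coprime_card_GL _ hd).gcd_eq_one, Nat.dvd_one, orderOf_eq_one_iff] at h1
  refine e.injective ?_
  rw [map_one]
  exact congrArg Units.val h1

variable {V : Type*} [AddCommGroup V] [Module 𝕂 V] [Module.Finite 𝕂 V]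

theorem fix_of_stable {g : Module.End 𝕂 V} (h5 : g ^ 5 = 1) (U : Submodule 𝕂 V)
    (hU : ∀ x ∈ U, g x ∈ U) (hd : finrank 𝕂 U ≤ 3) : ∀ x ∈ U, g x = x := by
  intro x hx
  have hp : ∀ (n : ℕ) (y : U), (((g.restrict hU) ^ n) y : V) = (g ^ n) y := by
    intro n
    induction n with
    | zero => simp
    | succ n ih =>
      intro y
      rw [pow_succ', pow_succ', Module.End.mul_apply, Module.End.mul_apply, ← ih]
      rfl
  have h1 := eq_one_of_pow_five (g.restrict hU) (LinearMap.ext fun y => Subtype.ext (by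
    rw [hp, h5]; rfl)) hd
  exact congrArg (fun f : Module.End 𝕂 U => (f ⟨x, hx⟩ : V)) h1

theorem finrank_ker_sub_one_le {g : Module.End 𝕂 V} (h5 : g ^ 5 = 1) (hg : g ≠ 1)
    (hV : finrank 𝕂 V = 7) : finrank 𝕂 (LinearMap.ker (g - 1)) ≤ 3 := by
  by_contra hlt
  refine hg ?_
  have hr : finrank 𝕂 (LinearMap.range (g - 1)) ≤ 3 := by
    have := LinearMap.finrank_range_add_finrank_ker (g - 1)
    omega
  have hfix := fix_of_stable h5 (LinearMap.range (g - 1)) (by
    rintro _ ⟨y, rfl⟩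
    exact ⟨g y, by simp [map_sub]⟩) hr
  refine LinearMap.ext fun y => ?_
  have h2 : g (g y - y) = g y - y := hfix _ ⟨y, rfl⟩
  have hn : ∀ n : ℕ, (g ^ n) y = y + n • (g y - y) := by
    intro n
    induction n with
    | zero => simp
    | succ n ih =>
      rw [pow_succ', Module.End.mul_apply, ih, map_add, map_nsmul, h2, add_nsmul, one_nsmul]
      abel
  have h3 := hn 5
  rw [h5, Module.End.one_apply, left_eq_add, ← Nat.cast_smul_eq_nsmul 𝕂] at h3
  show g y = y
  exact sub_eq_zero.1 ((smul_eq_zero.1 h3).resolve_left (by decide))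

theorem eq_of_mem_ker {f : Module.End 𝕂 V} {a : 𝕂} {x : V} :
    x ∈ LinearMap.ker (f - a • 1) ↔ f x = a • x := by
  simp [sub_eq_zero]

/-- Three kernels with different eigenvalues are independent. -/
theorem finrank_three_le {f : Module.End 𝕂 V} {a b c : 𝕂} (hab : a ≠ b) (hac : a ≠ c) (hbc : b ≠ c) :
    finrank 𝕂 (LinearMap.ker (f - a • 1)) + finrank 𝕂 (LinearMap.ker (f - b • 1)) +
      finrank 𝕂 (LinearMap.ker (f - c • 1)) ≤ finrank 𝕂 V := by
  classical
  set A := LinearMap.ker (f - a • 1)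
  set B := LinearMap.ker (f - b • 1)
  set C := LinearMap.ker (f - c • 1)
  have h1 : A ⊓ B = ⊥ := (Submodule.eq_bot_iff _).2 fun x ⟨hx, hx'⟩ => by
    have := (eq_of_mem_ker.1 hx).symm.trans (eq_of_mem_ker.1 hx')
    rw [← sub_eq_zero, ← sub_smul, smul_eq_zero, sub_eq_zero] at this
    exact this.resolve_left hab
  have h2 : (A ⊔ B) ⊓ C = ⊥ := (Submodule.eq_bot_iff _).2 fun x ⟨hx, hx'⟩ => by
    obtain ⟨y, hy, z, hz, rfl⟩ := Submodule.mem_sup.1 hx
    have e := eq_of_mem_ker.1 hx'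
    rw [map_add, eq_of_mem_ker.1 hy, eq_of_mem_ker.1 hz, smul_add] at e
    have e1 : (a - c) • y = (c - b) • z := by
      rw [sub_smul, sub_smul, sub_eq_sub_iff_add_eq_add, e]; abel
    have hy0 : (a - c) • y ∈ A ⊓ B := ⟨A.smul_mem _ hy, e1 ▸ B.smul_mem _ hz⟩
    rw [h1, Submodule.mem_bot] at hy0
    have hy' := (smul_eq_zero.1 hy0).resolve_left (sub_ne_zero.2 hac)
    have hz' := (smul_eq_zero.1 (e1.symm.trans hy0)).resolve_left (sub_ne_zero.2 (Ne.symm hbc))
    rw [hy', hz', add_zero]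
  have e1 := Submodule.finrank_sup_add_finrank_inf_eq A B
  have e2 := Submodule.finrank_sup_add_finrank_inf_eq (A ⊔ B) C
  rw [h1, finrank_bot] at e1
  rw [h2, finrank_bot] at e2
  have := Submodule.finrank_le (A ⊔ B ⊔ C)
  omega

theorem two_le_of_eigen {f : Module.End 𝕂 V} {a b : 𝕂} (hab : a ≠ b) {x y : V} (hx : x ≠ 0) (hy : y ≠ 0)
    (ex : f x = a • x) (ey : f y = b • y) (U : Submodule 𝕂 V) (hxU : x ∈ U) (hyU : y ∈ U) :
    2 ≤ finrank 𝕂 U := by
  have hi : LinearIndependent 𝕂 ![x, y] :=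
    Module.End.eigenvectors_linearIndependent' f ![a, b]
      (by intro i j e; fin_cases i <;> fin_cases j <;> simp_all [eq_comm])
      ![x, y] (by
        intro i
        rw [Module.End.hasEigenvector_iff]
        fin_cases i
        · exact ⟨Module.End.mem_eigenspace_iff.2 ex, hx⟩
        · exact ⟨Module.End.mem_eigenspace_iff.2 ey, hy⟩)
  have h2 := finrank_span_eq_card hi
  rw [Fintype.card_fin] at h2
  refine h2.symm.le.trans ?_
  exact Submodule.finrank_mono (Submodule.span_le.2 (by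
    rintro _ ⟨i, rfl⟩; fin_cases i <;> assumption))

theorem pow_apply_of_eigen {f : Module.End 𝕂 V} {a : 𝕂} {x : V} (ex : f x = a • x) :
    ∀ n : ℕ, (f ^ n) x = a ^ n • x := by
  intro n
  induction n with
  | zero => simp
  | succ n ih => rw [pow_succ', Module.End.mul_apply, ih, map_smul, ex, smul_smul, pow_succ]

theorem finrank_ker_toLin {n : ℕ} (X : Matrix (Fin n) (Fin n) 𝕂) :
    finrank 𝕂 (LinearMap.ker (Matrix.toLin' X)) + X.rank = n := by
  have h := LinearMap.finrank_range_add_finrank_ker (Matrix.toLin' X)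
  rw [Module.finrank_fin_fun] at h
  rw [Matrix.rank, ← Matrix.toLin'_apply']
  omega

/-- No element of order five commutes with the fourth power of an isometry with eigenvalues two and eleven. -/
theorem no_five {P B K : Matrix (Fin 7) (Fin 7) 𝕂} (hK : K.det ≠ 0) (hP : P * K * Pᵀ = K)
    (h2 : (Matrix.scalar (Fin 7) (2 : 𝕂) - P).det = 0)
    (h11 : (Matrix.scalar (Fin 7) (11 : 𝕂) - P).det = 0)
    (hB : B ^ 5 = 1) (hB1 : B ≠ 1) (hc : P ^ 4 * B = B * P ^ 4) : False := by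
  classical
  have hsc : ∀ c : 𝕂, Matrix.scalar (Fin 7) c = c • (1 : Matrix (Fin 7) (Fin 7) 𝕂) := fun c => by
    rw [Matrix.smul_one_eq_diagonal]; rfl
  have hdet : P.det * P.det = 1 := by
    have h1 := congrArg Matrix.det hP
    rw [Matrix.det_mul, Matrix.det_mul, Matrix.det_transpose] at h1
    refine mul_right_cancel₀ hK ?_
    rw [one_mul]
    calc P.det * P.det * K.det = P.det * K.det * P.det := by ring
      _ = _ := h1
  have hPu : IsUnit P.det := IsUnit.of_mul_eq_one _ hdet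
  have hP4 : ∀ n : ℕ, P ^ n * K * (P ^ n)ᵀ = K := by
    intro n
    induction n with
    | zero => simp
    | succ n ih =>
      rw [pow_succ, Matrix.transpose_mul,
        show P ^ n * P * K * (Pᵀ * (P ^ n)ᵀ) = P ^ n * (P * K * Pᵀ) * (P ^ n)ᵀ by
          simp only [Matrix.mul_assoc], hP, ih]
  -- an eigenvalue one or minus one
  set ε := P.det with hε
  have hε1 : (Matrix.scalar (Fin 7) ε - P).det = 0 := by
    have e : (P - ε • 1) * K * Pᵀ = K * ((-ε) • (Pᵀ - ε • 1)) := by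
      rw [Matrix.sub_mul, Matrix.sub_mul, hP, Matrix.mul_smul, Matrix.mul_sub, smul_sub, Matrix.mul_smul,
        Matrix.mul_one, smul_smul, neg_mul, hdet, neg_smul, neg_smul, one_smul, Matrix.smul_mul,
        Matrix.smul_mul, Matrix.one_mul]
      abel
    have h1 := congrArg Matrix.det e
    rw [Matrix.det_mul, Matrix.det_mul, Matrix.det_transpose, Matrix.det_mul, Matrix.det_smul,
      Fintype.card_fin, show (Pᵀ - ε • 1).det = (P - ε • 1).det by
        rw [← Matrix.det_transpose, Matrix.transpose_sub, Matrix.transpose_smul, Matrix.transpose_one,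
          Matrix.transpose_transpose]] at h1
    have h7 : (-ε) ^ 7 = -ε := by
      rw [(show Odd 7 by decide).neg_pow]
      rw [show ε ^ 7 = (ε * ε) ^ 3 * ε by ring, hdet, one_pow, one_mul]
    rw [h7] at h1
    have h2' : (2 * ε * K.det) * (P - ε • 1).det = 0 := by linear_combination h1
    have h3 := (mul_eq_zero.1 h2').resolve_left
      (mul_ne_zero (mul_ne_zero (by decide) hPu.ne_zero) hK)
    rw [hsc, show ε • (1 : Matrix (Fin 7) (Fin 7) 𝕂) - P = -(P - ε • 1) by rw [neg_sub], Matrix.det_neg,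
      h3, mul_zero]
  -- the endomorphisms
  set f := Matrix.toLin' P
  set g := Matrix.toLin' B
  have hev : ∀ c : 𝕂, (Matrix.scalar (Fin 7) c - P).det = 0 → ∃ x, x ≠ 0 ∧ f x = c • x := by
    intro c hc0
    obtain ⟨x, hx, e⟩ := Matrix.exists_mulVec_eq_zero_iff.2 hc0
    refine ⟨x, hx, ?_⟩
    rw [Matrix.sub_mulVec, sub_eq_zero, hsc, Matrix.smul_mulVec, Matrix.one_mulVec] at e
    rw [Matrix.toLin'_apply, ← e]
  obtain ⟨x2, hx2, e2⟩ := hev 2 h2
  obtain ⟨x11, hx11, e11⟩ := hev 11 h11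
  obtain ⟨xe, hxe, ee⟩ := hev ε hε1
  have hf4 : Matrix.toLin' (P ^ 4) = f ^ 4 := Matrix.toLin'_pow P 4
  set V := fun c : 𝕂 => LinearMap.ker (f ^ 4 - c • 1) with hV
  have d1 : 1 ≤ finrank 𝕂 (V 1) := by
    refine Submodule.one_le_finrank_iff.2 fun h0 => hxe ?_
    have hm : xe ∈ V 1 := eq_of_mem_ker.2 (by
      rw [pow_apply_of_eigen ee, show ε ^ 4 = (ε * ε) ^ 2 by ring, hdet, one_pow])
    rwa [h0, Submodule.mem_bot] at hm
  have d3 : 2 ≤ finrank 𝕂 (V 3) := by
    refine two_le_of_eigen (by decide) hx2 hx11 e2 e11 _ (eq_of_mem_ker.2 ?_) (eq_of_mem_ker.2 ?_)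
    · rw [pow_apply_of_eigen e2]; rfl
    · rw [pow_apply_of_eigen e11]; rfl
  have d39 : finrank 𝕂 (V 3) = finrank 𝕂 (V 9) := by
    have key : ∀ c : 𝕂, V c = LinearMap.ker (Matrix.toLin' (P ^ 4 - c • 1)) := fun c => by
      rw [map_sub, hf4, map_smul, Matrix.toLin'_one]; rfl
    have e : (P ^ 4 - (3 : 𝕂) • 1) * K * (P ^ 4)ᵀ = (-3 : 𝕂) • (K * ((P ^ 4)ᵀ - (9 : 𝕂) • 1)) := by
      rw [Matrix.sub_mul, Matrix.sub_mul, hP4, Matrix.mul_sub, smul_sub, Matrix.mul_smul, Matrix.mul_one,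
        smul_smul, show (-3 : 𝕂) * 9 = -1 by decide, Matrix.smul_mul, Matrix.smul_mul, Matrix.one_mul,
        neg_smul, neg_smul, one_smul]
      abel
    have hPt : IsUnit ((P ^ 4)ᵀ).det := by
      rw [Matrix.det_transpose, Matrix.det_pow]; exact hPu.pow 4
    have h3 : IsUnit ((-3 : 𝕂) • K).det := by
      rw [Matrix.det_smul]
      exact isUnit_iff_ne_zero.2 (mul_ne_zero (pow_ne_zero _ (by decide)) hK)
    have h1 := congrArg Matrix.rank e
    rw [Matrix.rank_mul_eq_left_of_isUnit_det _ _ hPt,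
      Matrix.rank_mul_eq_left_of_isUnit_det _ _ (isUnit_iff_ne_zero.2 hK), ← Matrix.smul_mul,
      Matrix.rank_mul_eq_right_of_isUnit_det _ _ h3] at h1
    rw [← Matrix.rank_transpose ((P ^ 4)ᵀ - (9 : 𝕂) • 1), Matrix.transpose_sub, Matrix.transpose_smul,
      Matrix.transpose_one, Matrix.transpose_transpose] at h1
    have a3 := finrank_ker_toLin (P ^ 4 - (3 : 𝕂) • 1)
    have a9 := finrank_ker_toLin (P ^ 4 - (9 : 𝕂) • 1)
    rw [key, key]
    omega
  have hdim : finrank 𝕂 (Fin 7 → 𝕂) = 7 := Module.finrank_fin_fun 𝕂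
  have hsum : finrank 𝕂 (V 3) + finrank 𝕂 (V 9) + finrank 𝕂 (V 1) ≤ 7 :=
    (finrank_three_le (f := f ^ 4) (show (3 : 𝕂) ≠ 9 by decide) (show (3 : 𝕂) ≠ 1 by decide)
      (show (9 : 𝕂) ≠ 1 by decide)).trans_eq hdim
  have hg5 : g ^ 5 = 1 := by
    rw [← Matrix.toLin'_pow, hB, Matrix.toLin'_one]; rfl
  have hg1 : g ≠ 1 := fun h0 => hB1 (Matrix.toLin'.injective (by
    rw [Matrix.toLin'_one]; exact h0))
  have hcom : ∀ x, (f ^ 4) (g x) = g ((f ^ 4) x) := fun x => by
    rw [← hf4, ← LinearMap.comp_apply, ← LinearMap.comp_apply, ← Matrix.toLin'_mul, ← Matrix.toLin'_mul, hc]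
  have hstab : ∀ c : 𝕂, ∀ x ∈ V c, g x ∈ V c := fun c x hx => eq_of_mem_ker.2 (by
    rw [hcom, eq_of_mem_ker.1 hx, map_smul])
  have hfix : ∀ c : 𝕂, finrank 𝕂 (V c) ≤ 3 → V c ≤ LinearMap.ker (g - 1) := fun c hd x hx => by
    simp [fix_of_stable hg5 (V c) (hstab c) hd x hx]
  have h39 : finrank 𝕂 ↥(V 3 ⊔ V 9) ≤ 3 :=
    (Submodule.finrank_mono (sup_le (hfix 3 (by omega))
      (hfix 9 (by omega)))).trans (finrank_ker_sub_one_le hg5 hg1 hdim)
  have hinf : V 3 ⊓ V 9 = ⊥ := (Submodule.eq_bot_iff _).2 fun x ⟨hx, hx'⟩ => by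
    have := (eq_of_mem_ker.1 hx).symm.trans (eq_of_mem_ker.1 hx')
    rw [← sub_eq_zero, ← sub_smul, smul_eq_zero] at this
    exact this.resolve_left (by decide)
  have e := Submodule.finrank_sup_add_finrank_inf_eq (V 3) (V 9)
  rw [hinf, finrank_bot] at e
  omega

theorem no_five' {l : ℕ} (hl : l = 7) {P B K : Matrix (Fin l) (Fin l) 𝕂} (hK : K.det ≠ 0)
    (hP : P * K * Pᵀ = K)
    (h2 : (Matrix.scalar (Fin l) (2 : 𝕂) - P).det = 0)
    (h11 : (Matrix.scalar (Fin l) (11 : 𝕂) - P).det = 0)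
    (hB : B ^ 5 = 1) (hB1 : B ≠ 1) (hc : P ^ 4 * B = B * P ^ 4) : False := by
  subst hl
  exact no_five hK hP h2 h11 hB hB1 hc

end CfsgLib.Chev.E7SixtyFive
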