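import Cfsg.Agent.Lib.PrimeGraphClassical.Sp
import Cfsg.Agent.Lib.PrimeGraphClassical.SL
import Cfsg.Agent.Lib.PrimeGraphClassical.SpElements
import Cfsg.Agent.Lib.FormRep.Unitary

/-!
Elements of order sixty-five in small groups over the fields with eight and sixty-four elements.
-/

set_option autoImplicit false
set_option linter.unusedSectionVars false

namespace CfsgLib.Chev.E7SixtyFive

open Module CfsgLib.PrimeGraphClassical
open scoped MatrixGroups

local instance gFactPrime1 : Fact (Nat.Prime 2) := ⟨Nat.prime_two⟩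

theorem charP_two {F : Type*} [Field F] [Fintype F] {n : ℕ} (h : Fintype.card F = 2 ^ n) : CharP F 2 :=
  charP_of_card_eq_prime_pow h

variable {F : Type*} [Field F] [Fintype F]

theorem exists_psl_two (h : Fintype.card F = 64) :
    ∃ z : Matrix.ProjectiveSpecialLinearGroup (Fin 2) F, orderOf z = 65 := by
  have : CharP F 2 := charP_two (n := 6) (by rw [h]; norm_num)
  obtain ⟨g, hg⟩ := exists_SL2_orderOf (L := F) (d := 65) (Or.inr (by
    rw [Nat.card_eq_fintype_card, h]))
  obtain ⟨z, hz⟩ := (mem_range_iff_PSL (F := F) (n := 2) (m := 65) (by norm_num)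
    (by rw [h]; norm_num) (by norm_num)).2 ⟨g, hg⟩
  exact ⟨z, hz⟩

theorem exists_psl_four (h : Fintype.card F = 8) :
    ∃ z : Matrix.ProjectiveSpecialLinearGroup (Fin 4) F, orderOf z = 65 := by
  have : CharP F 2 := charP_two (n := 3) (by rw [h]; norm_num)
  obtain ⟨L, _, _, _, hd, hc⟩ := exists_field (F := F) 2 4 (by norm_num)
  haveI : Module.Finite F L := Module.Finite.of_finite
  obtain ⟨x, hx⟩ := exists_root_order (L := L) (d := 65) (by rw [hc, h]; norm_num)
  obtain ⟨g, hg⟩ := exists_matrix (Module.finBasisOfFinrankEq F L hd) x (m := 65)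
    (by rw [h]; norm_num) hx (by norm_num)
  obtain ⟨z, hz⟩ := (mem_range_iff_PSL (F := F) (n := 4) (m := 65) (by norm_num)
    (by rw [h]; norm_num) (by norm_num)).2 ⟨g, hg⟩
  exact ⟨z, hz⟩

theorem exists_psp {n : ℕ} (hn : 2 ≤ n) (h : Fintype.card F = 8) :
    ∃ z : Cfsg.PSp n F, orderOf z = 65 := by
  have : CharP F 2 := charP_two (n := 3) (by rw [h]; norm_num)
  obtain ⟨L, _, _, _, hd, hc⟩ := exists_field (F := F) 2 2 (by norm_num)
  haveI : Module.Finite F L := Module.Finite.of_finite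
  obtain ⟨g, hg⟩ := exists_SL2_orderOf (L := L) (d := 65) (Or.inr (by rw [hc, h]; norm_num))
  obtain ⟨x, hx⟩ := exists_one_block (F := F) (n := n) (by rw [hd]; exact hn) g
  obtain ⟨z, hz⟩ := (mem_range_iff_odd (F := F) (n := n) (m := 65) (by decide)).2
    ⟨x, hx.trans hg⟩
  exact ⟨z, hz⟩

theorem exists_psu (h : Fintype.card F = 64) : ∃ z : Cfsg.PSU 4 F 8, orderOf z = 65 := by
  classical
  have : CharP F 2 := charP_two (n := 6) (by rw [h]; norm_num)
  obtain ⟨σ, hσ'⟩ := CfsgLib.FormRep.exists_powEquiv (F := F) F 2 Nat.prime_two 3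
  have hσq : ∀ c, σ c = c ^ 8 := fun c => (hσ' c).trans (by norm_num)
  have hσ : ∀ c, σ (σ c) = c := fun c => by
    rw [hσq, hσq, ← pow_mul, show 8 * 8 = Fintype.card F by rw [h]]
    exact FiniteField.pow_card c
  have hne : σ ≠ RingEquiv.refl F := fun e => by
    obtain ⟨x, hx⟩ := exists_root_order (L := F) (d := 63) (by rw [Nat.card_eq_fintype_card, h])
    have h8 : x ^ 8 = x := by rw [← hσq, e]; rfl
    have hx0 : x ≠ 0 := fun h0 => by simp [h0] at hx
    have h7 : x ^ 7 = 1 := mul_right_cancel₀ hx0 (by rw [← pow_succ, h8, one_mul])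
    have := Nat.le_of_dvd (by norm_num) (hx ▸ orderOf_dvd_of_pow_eq_one h7)
    omega
  let L := FiniteField.Extension F 2 2
  have hfr : finrank F L = 2 := FiniteField.finrank_extension F 2 2
  have hL : Nat.card L = 4096 := by
    rw [FiniteField.natCard_extension, Nat.card_eq_fintype_card, h]; norm_num
  obtain ⟨τ, hτ⟩ := CfsgLib.FormRep.exists_powEquiv (F := F) L 2 Nat.prime_two 3
  have hτF : ∀ c : F, τ (algebraMap F L c) = algebraMap F L (σ c) := fun c => by
    rw [hτ, hσq, map_pow]; norm_num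
  obtain ⟨f, hf⟩ := exists_nondeg (F := F) L
  let D := CfsgLib.FormRep.Dat.hyper (σ := σ) (ε := (1 : F)) hσ (one_mul 1) (map_one σ) τ hτF f
    (fun x hx => hf x fun y => by rw [mul_comm]; exact hx y)
  obtain ⟨Φ, hΦ, hbar⟩ := CfsgLib.FormRep.exists_rep_unitary hσ hne D (n := 4) (by
    rw [Module.finrank_prod, hfr])
  obtain ⟨x, hx⟩ := exists_root_order (L := L) (d := 65) (by rw [hL]; norm_num)
  have hx0 : x ≠ 0 := fun h0 => by simp [h0] at hx
  set u : L × L := (x, (τ x)⁻¹)
  have hu : D.bar u * u = 1 := by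
    refine Prod.ext ?_ ?_
    · show τ.symm (τ x)⁻¹ * x = 1
      rw [map_inv₀, RingEquiv.symm_apply_apply, inv_mul_cancel₀ hx0]
    · show τ x * (τ x)⁻¹ = 1
      exact mul_inv_cancel₀ (by simpa using hx0)
  have huo : orderOf u = 65 := by
    have h2 : orderOf (τ x)⁻¹ = 65 := by
      rw [CfsgLib.PrimeGraphClassical.orderOf_inv_field, ← hx]
      exact orderOf_injective τ.toRingHom.toMonoidHom τ.injective x
    rw [Prod.orderOf, show u.1 = x from rfl, show u.2 = (τ x)⁻¹ from rfl, hx, h2, Nat.lcm_self]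
  have hdet : (Φ u).det = 1 := by
    have h1 : (Φ u).det ^ 65 = 1 := by
      rw [← Matrix.det_pow, ← map_pow, ← huo, pow_orderOf_eq_one, map_one, Matrix.det_one]
    exact eq_one_of_pow (F := F) (m := 65) (by rw [h]; norm_num) (fun h0 => by simp [h0] at h1) h1
  let g₀ : Matrix.SpecialLinearGroup (Fin 4) F := ⟨Φ u, hdet⟩
  have hmem : g₀ ∈ Cfsg.SU 4 F 8 := (CfsgLib.FormRep.Unitary.mem_SU_iff σ hσq hσ).2 (by
    show _ * Φ u = 1
    rw [hbar, ← map_mul, hu, map_one])
  let g : Cfsg.SU 4 F 8 := ⟨g₀, hmem⟩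
  have hgpow : ∀ i : ℕ, ((g ^ i).1 : Matrix (Fin 4) (Fin 4) F) = Φ (u ^ i) := fun i => by
    rw [map_pow, SubgroupClass.coe_pow, Matrix.SpecialLinearGroup.coe_pow]
  refine ⟨(g : Cfsg.PSU 4 F 8), Nat.dvd_antisymm (orderOf_dvd_of_pow_eq_one ?_) ?_⟩
  · rw [← QuotientGroup.mk_pow, QuotientGroup.eq_one_iff]
    have e : g ^ 65 = 1 := Subtype.ext (Subtype.ext (by
      rw [hgpow, ← huo, pow_orderOf_eq_one, map_one]; rfl))
    rw [e]
    exact one_mem _
  · set o := orderOf (g : Cfsg.PSU 4 F 8)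
    have hc : g ^ o ∈ Subgroup.center (Cfsg.SU 4 F 8) := by
      rw [← QuotientGroup.eq_one_iff, QuotientGroup.mk_pow, pow_orderOf_eq_one]
    obtain ⟨c, hc⟩ := (CfsgLib.FormRep.Unitary.center_iff (by norm_num) (by rw [h]; norm_num) σ hσq hσ _).1 hc
    rw [hgpow] at hc
    have hc0 : c ≠ 0 := fun h0 => by
      have h1 := congrArg Matrix.det hc
      rw [map_pow, Matrix.det_pow, hdet, one_pow, h0, zero_smul, Matrix.det_zero] at h1
      exact one_ne_zero h1
    have h1 : Φ (u ^ (o * 63)) = 1 := by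
      rw [pow_mul, map_pow, hc, smul_pow, one_pow,
        show (63 : ℕ) = Fintype.card F - 1 by rw [h], FiniteField.pow_card_sub_one_eq_one c hc0, one_smul]
    have h2 := orderOf_dvd_of_pow_eq_one (hΦ (h1.trans (map_one Φ).symm))
    rw [huo] at h2
    exact (by norm_num : Nat.Coprime 65 63).dvd_of_dvd_mul_right h2

end CfsgLib.Chev.E7SixtyFive
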