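import Cfsg.Agent.Lib.Chev.E7SixtyFive.Torus
import Cfsg.Agent.Lib.Classical.AltSection.EigenFusion

/-!
The group of type E7 over the field with two elements has no element of order sixty-five.
-/

set_option autoImplicit false
set_option maxRecDepth 100000
set_option maxHeartbeats 1000000

namespace CfsgLib.Chev.E7SixtyFive

open Cfsg.Lie Matrix CfsgLib.Chev CfsgLib.Chev.Cert CfsgLib.Chev.GTorus CfsgLib.Chev.SylowTorus

local instance nFactPrime1 : Fact (Nat.Prime 13) := ⟨by norm_num⟩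
local instance nFactPrime2 : Fact (Nat.Prime 5) := ⟨by norm_num⟩

/-- No element of order sixty-five. -/
theorem orderOf_ne {z : GL chevE7.Idx (ZMod 2)} (hz : z ∈ chevE7.group (ZMod 2)) :
    orderOf z ≠ 65 := by
  classical
  intro hz65
  let L := FiniteField.Extension (ZMod 2) 2 60
  let : Fintype L := Fintype.ofFinite L
  have hQ : Fintype.card L = 2 ^ 60 := by
    rw [← Nat.card_eq_fintype_card, FiniteField.natCard_extension, Nat.card_zmod]
  have h1 : ∀ m : ℕ, (2 ^ 60) % m = 1 → m ∣ Nat.card Lˣ := fun m hm => by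
    rw [Nat.card_units, Nat.card_eq_fintype_card, hQ]
    exact ⟨2 ^ 60 / m, by have := Nat.div_add_mod (2 ^ 60) m; omega⟩
  have h13 : 13 ∣ Nat.card Lˣ := h1 13 (by norm_num)
  have h25 : 25 ∣ Nat.card Lˣ := h1 25 (by norm_num)
  have h5 : 5 ∣ Nat.card Lˣ := (by norm_num : 5 ∣ 25).trans h25
  have hQ13 : (Fintype.card L : ZMod 13) = 1 := by rw [hQ, Nat.cast_pow]; decide
  set T := chevE7.diagonalSubgroup L
  set G := chevE7.group L
  set f : ZMod 2 →+* L := algebraMap (ZMod 2) L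
  set σ : L →+* L := (FiniteField.frobeniusAlgHom (ZMod 2) L).toRingHom
  have hσ : ∀ x, σ x = x ^ 2 := fun x => by
    show x ^ Fintype.card (ZMod 2) = x ^ 2
    rfl
  have hσf : ∀ g : GL chevE7.Idx (ZMod 2), mapGL chevE7 σ (mapGL chevE7 f g) = mapGL chevE7 f g :=
    fun g => (mapGL_eq_self_iff chevE7 σ _).2 fun i j =>
      DFunLike.congr_fun (RingHom.ext_zmod (σ.comp f) f) (g.1 i j)
  have hσd : ∀ d ∈ T, mapGL chevE7 σ d = d ^ 2 := fun d hd => by
    obtain ⟨c, rfl⟩ := certE7.range_torusHom.ge hd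
    rw [mapGL_torusHom, ← map_pow]
    congr 1
  set Z := mapGL chevE7 f z with hZdef
  have hZ : Z ∈ G := certE7.map_mem_group f hz
  have hZo : orderOf Z = 65 := (orderOf_injective _ (mapGL_injective chevE7 f) z).trans hz65
  set t₀ := Z ^ 5
  set u₀ := Z ^ 13
  have hto₀ : orderOf t₀ = 13 := by
    rw [orderOf_pow' _ (by norm_num), hZo]
    norm_num
  have huo₀ : orderOf u₀ = 5 := by
    rw [orderOf_pow' _ (by norm_num), hZo]
    norm_num
  -- the element of order thirteen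
  have hidx : ¬ 13 ∣ T.relIndex G := by
    obtain ⟨g, -, eG, eD⟩ := (orderOK_E7 (F := L)).ex
    exact CycTorus.not_dvd_relIndex_of certE7.diagonal_le_group (by norm_num) Fintype.one_lt_card hQ13
      eG eD (by decide)
  obtain ⟨g, hg, hgd⟩ := CfsgLib.Classical.AltSection.EigenFusion.exists_conj_diagonal certE7
    (fun _ : Unit => t₀) (fun _ => 13) (fun _ => by norm_num) (fun _ => pow_mem hZ 5) (fun _ => hto₀)
    (fun _ _ => Commute.refl _) (fun _ => hidx) Finset.univ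
  set t := g * t₀ * g⁻¹ with htdef
  have ht : t ∈ T := hgd () (Finset.mem_univ _)
  have hto : orderOf t = 13 := (orderOf_injective (MulAut.conj g).toMonoidHom (MulAut.conj g).injective
    t₀).trans hto₀
  have hfix : ∀ (a : GL chevE7.Idx L) (i : ℕ), a * Z ^ i * a⁻¹ ∈ T →
      (mapGL chevE7 σ a * a⁻¹) * (a * Z ^ i * a⁻¹) * (mapGL chevE7 σ a * a⁻¹)⁻¹ =
        (a * Z ^ i * a⁻¹) ^ 2 := fun a i ha => by
    rw [← hσd _ ha, map_mul, map_mul, map_inv, map_pow, hσf z, hZdef]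
    group
  have hy : mapGL chevE7 σ g * g⁻¹ ∈ G := mul_mem (certE7.map_mem_group σ hg) (inv_mem hg)
  obtain ⟨n₀, hn₀, hnc⟩ := diag_fusion certE7 hy
  have hn₀t : n₀⁻¹ * t ^ 2 * n₀⁻¹⁻¹ = t := by
    rw [← hnc t ht _ (pow_mem ht 2) (hfix g 5 ht)]
    group
  have hidx5 := not_five_dvd_relIndex h13 h25 ht hto (inv_mem hn₀) hn₀t
  -- the element of order five
  set C := G ⊓ Subgroup.centralizer ({t} : Set (GL chevE7.Idx L))
  have hTC : T ≤ C := fun d hd => Subgroup.mem_inf.2 ⟨certE7.diagonal_le_group hd,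
    Subgroup.mem_centralizer_singleton_iff.2 (certE7.diagonal_comm hd ht)⟩
  obtain ⟨S⟩ : Nonempty (Sylow 5 T) := inferInstance
  set X := (S : Subgroup T).map T.subtype with hX
  have hXidx : ¬ 5 ∣ X.relIndex C := by
    rw [← Subgroup.relIndex_mul_relIndex X T C (Subgroup.map_subtype_le _) hTC]
    refine (by norm_num : Nat.Prime 5).not_dvd_mul ?_ hidx5
    rw [Subgroup.relIndex, hX, ← Subgroup.comap_subtype,
      Subgroup.comap_map_eq_self_of_injective T.subtype_injective]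
    exact S.not_dvd_index
  set u₁ := g * u₀ * g⁻¹ with hu₁
  have huC : u₁ ∈ C := Subgroup.mem_inf.2 ⟨mul_mem (mul_mem hg (pow_mem hZ 13)) (inv_mem hg),
    Subgroup.mem_centralizer_singleton_iff.2
      (((Commute.pow_pow_self Z 13 5).map (MulAut.conj g).toMonoidHom).eq)⟩
  have huo₁ : orderOf u₁ = 5 := (orderOf_injective (MulAut.conj g).toMonoidHom (MulAut.conj g).injective
    u₀).trans huo₀
  obtain ⟨k, hk, hle⟩ := CfsgLib.Transfer.exists_conj_le_of_not_dvd_relIndex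
    ((Subgroup.map_subtype_le _).trans hTC) (S.isPGroup'.map _) hXidx
    (Y := Subgroup.zpowers u₁) (Subgroup.zpowers_le.2 huC)
    (IsPGroup.of_card (n := 1) (by rw [Nat.card_zpowers, huo₁, pow_one]))
  obtain ⟨hkG, hkt⟩ := Subgroup.mem_inf.1 hk
  have hkt : k * t = t * k := Subgroup.mem_centralizer_singleton_iff.1 hkt
  set a := k * g
  have e13 : a * Z ^ 13 * a⁻¹ = k * u₁ * k⁻¹ := by
    rw [hu₁]
    show k * g * u₀ * (k * g)⁻¹ = _
    group
  have hu : a * Z ^ 13 * a⁻¹ ∈ T := by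
    rw [e13]
    have h2 := (Subgroup.map_subtype_le _) (hle (Subgroup.mem_map_of_mem _ (Subgroup.mem_zpowers u₁)))
    simpa only [MulEquiv.coe_toMonoidHom, MulAut.conj_apply] using h2
  have hat : a * Z ^ 5 * a⁻¹ = t := by
    show k * g * t₀ * (k * g)⁻¹ = t
    calc _ = k * t * k⁻¹ := by rw [htdef]; group
      _ = t := by rw [hkt, mul_inv_cancel_right]
  have hat' : a * Z ^ 5 * a⁻¹ ∈ T := hat ▸ ht
  have huo : orderOf (a * Z ^ 13 * a⁻¹) = 5 :=
    (orderOf_injective (MulAut.conj a).toMonoidHom (MulAut.conj a).injective (Z ^ 13)).trans huo₀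
  obtain ⟨n, hn, hnc'⟩ := diag_fusion certE7
    (mul_mem (certE7.map_mem_group σ (mul_mem hkG hg)) (inv_mem (mul_mem hkG hg)))
  have hback : ∀ d ∈ T, (mapGL chevE7 σ a * a⁻¹) * d * (mapGL chevE7 σ a * a⁻¹)⁻¹ = d ^ 2 →
      n⁻¹ * d ^ 2 * n⁻¹⁻¹ = d := fun d hd e => by
    rw [← hnc' d hd _ (pow_mem hd 2) e]
    group
  obtain ⟨w, hw, hM⟩ := exists_acts_word certE7 (inv_mem hn)
  obtain ⟨N, hN, hMN⟩ := acts_finite_order' certE7 (by norm_num : (2 : ℤ) ≠ 0) evE7.inv hM
  obtain ⟨c, hc, hce⟩ := eigen_of_conj (r := 13) (by norm_num) h13 hat'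
    (by rw [hat, hto]) (inv_mem hn) hM (hback _ hat' (hfix a 5 hat'))
  obtain ⟨c', hc', hce'⟩ := eigen_of_conj (r := 5) (by norm_num) h5 hu huo (inv_mem hn) hM
    (hback _ hu (hfix a 13 hu))
  exact no_both hw hN hMN hc hce hc' hce'

end CfsgLib.Chev.E7SixtyFive
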