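import Cfsg.Agent.Lib.Chev.E7SixtyFive.Weyl
import Cfsg.Agent.Lib.Chev.SylowTorus.Fusion
import Cfsg.Agent.Lib.Chev.CycTorus.Common
import Cfsg.Agent.Lib.Chev.SylowTorus.Types
import Cfsg.Agent.Lib.Chev.WeylData
import Cfsg.Agent.Lib.Transfer.Sylow

/-!
The centralizer of a diagonal element of order thirteen which is fused to its square, in type E7.
-/

set_option autoImplicit false
set_option maxRecDepth 100000
set_option maxHeartbeats 1000000

namespace CfsgLib.Chev.E7SixtyFive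

open Cfsg.Lie Matrix CfsgLib.Chev CfsgLib.Chev.Cert CfsgLib.Chev.GTorus CfsgLib.Chev.SylowTorus

local instance tFactPrime1 : Fact (Nat.Prime 13) := ⟨by norm_num⟩
local instance tFactPrime2 : Fact (Nat.Prime 5) := ⟨by norm_num⟩

theorem roots_congr : ∀ r < tabE7.n, ∀ s < tabE7.n,
    (∀ j : Fin tabE7.l, (tabE7.car j s - tabE7.car j r) % 13 = 0) →
      ∀ j : Fin tabE7.l, tabE7.car j s = tabE7.car j r := by
  decide +kernel

theorem regular_vec : ∀ s < tabE7.n,
    ((kKE7 *ᵥ fun _ => (1 : ℤ)) ⬝ᵥ carV tabE7 s) % 25 ≠ 0 := by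
  decide +kernel

variable {L : Type} [Field L]

/-- A monomial element trivial modulo thirteen is diagonal. -/
theorem mem_diagonal_of_congr {g : GL chevE7.Idx L} (hg : g ∈ chevE7.monomialSubgroup L)
    {M : Matrix (Fin tabE7.l) (Fin tabE7.l) ℤ} (hM : Acts chevE7 tabE7 g M)
    (h1 : M.map (Int.castRingHom (ZMod 13)) = 1) : g ∈ chevE7.diagonalSubgroup L := by
  refine mem_diagonal_of_acts certE7 hg fun r hr => ?_
  obtain ⟨s, hs, hm, he⟩ := hM r hr
  refine ⟨s, hs, hm, ?_⟩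
  rw [Matrix.one_mulVec]
  funext j
  refine roots_congr r hr s hs (fun i => ?_) j
  refine Int.emod_eq_zero_of_dvd ((ZMod.intCast_zmod_eq_zero_iff_dvd _ 13).1 ?_)
  have h2 := RingHom.map_mulVec (Int.castRingHom (ZMod 13)) M (carV tabE7 r) i
  rw [h1, Matrix.one_mulVec, ← he] at h2
  rw [Int.cast_sub, sub_eq_zero]
  exact h2

/-- The eigenvector of a monomial element carrying the square of a diagonal element to it. -/
theorem eigen_of_conj [Fintype L] {r : ℕ} [Fact r.Prime] (hr : r.Coprime 2)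
    (hrL : r ∣ Nat.card Lˣ) {d : GL chevE7.Idx L} (hd : d ∈ chevE7.diagonalSubgroup L)
    (hdo : orderOf d = r) {m : GL chevE7.Idx L} (hm : m ∈ chevE7.monomialSubgroup L)
    {M : Matrix (Fin tabE7.l) (Fin tabE7.l) ℤ} (hM : Acts chevE7 tabE7 m M)
    (hc : m * d ^ 2 * m⁻¹ = d) :
    ∃ c : Fin tabE7.l → ZMod r, c ≠ 0 ∧
      c ᵥ* M.map (Int.castRingHom (ZMod r)) = (2 : ZMod r) • c := by
  classical
  have hr' : r.Prime := Fact.out
  obtain ⟨c, hcr, hcd⟩ := CycTorus.exists_torusHom_root certE7 (Mi := kKE7) (δ := 2) evE7.inv hr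
    hr'.one_lt hd (by rw [← hdo, pow_orderOf_eq_one])
  obtain ⟨ω, hω⟩ := exists_prime_orderOf_dvd_card' (G := Lˣ) r hrL
  have hω' : IsPrimitiveRoot (ω : L) r := by
    rw [IsPrimitiveRoot.iff_orderOf, orderOf_units, hω]
  have hXi : ∀ j, ∃ k : ℤ, ω ^ k = c j := fun j => by
    obtain ⟨k, -, hk⟩ := hω'.eq_pow_of_pow_eq_one (ξ := (c j : L))
      (by rw [← Units.val_pow_eq_pow_val, show c j ^ r = 1 from congrFun hcr j, Units.val_one])
    exact ⟨k, Units.ext (by rw [zpow_natCast, Units.val_pow_eq_pow_val, hk])⟩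
  choose k hk using hXi
  obtain rfl : (fun j => ω ^ k j) = c := funext hk
  refine ⟨fun j => (k j : ZMod r), fun h0 => ?_, ?_⟩
  · have h1 : (fun j => ω ^ k j) = 1 := funext fun j => orderOf_dvd_iff_zpow_eq_one.1
      (by rw [hω]; exact (ZMod.intCast_zmod_eq_zero_iff_dvd _ _).1 (congrFun h0 j))
    rw [h1, map_one] at hcd
    rw [← hcd, orderOf_one] at hdo
    exact hr'.ne_one hdo.symm
  · have := CycTorus.vecMul_of_conj_of certE7 (Mi := kKE7) (δ := 2) evE7.inv hr hω hm hM k 2 (by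
      rw [show Cert.torusHom (D := chevE7) (T := tabE7) (fun j => ω ^ ((2 : ℤ) * k j)) = d ^ 2 by
        rw [← hcd, ← map_pow]
        congr 1
        funext j
        rw [Pi.pow_apply, mul_comm, _root_.zpow_mul]
        rfl, hc, hcd])
    simpa using this

/-- Five does not divide the index of the diagonal subgroup in the centralizer. -/
theorem not_five_dvd_relIndex [Fintype L] (h13 : 13 ∣ Nat.card Lˣ) (h25 : 25 ∣ Nat.card Lˣ)
    {t : GL chevE7.Idx L} (ht : t ∈ chevE7.diagonalSubgroup L) (hto : orderOf t = 13)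
    {n₀ : GL chevE7.Idx L} (hn₀ : n₀ ∈ chevE7.monomialSubgroup L) (hn₀t : n₀ * t ^ 2 * n₀⁻¹ = t) :
    ¬ 5 ∣ (chevE7.diagonalSubgroup L).relIndex
      (chevE7.group L ⊓ Subgroup.centralizer ({t} : Set (GL chevE7.Idx L))) := by
  classical
  intro hdv
  set T := chevE7.diagonalSubgroup L
  set N := chevE7.monomialSubgroup L
  set G := chevE7.group L
  set C := G ⊓ Subgroup.centralizer ({t} : Set (GL chevE7.Idx L))
  have hmemC : ∀ {x}, x ∈ C ↔ x ∈ G ∧ x * t = t * x := fun {x} => by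
    rw [Subgroup.mem_inf, Subgroup.mem_centralizer_singleton_iff]
  have hTC : T ≤ C := fun d hd =>
    hmemC.2 ⟨certE7.diagonal_le_group hd, certE7.diagonal_comm hd ht⟩
  -- a Sylow subgroup of the diagonal
  obtain ⟨S⟩ : Nonempty (Sylow 5 T) := inferInstance
  set X := (S : Subgroup T).map T.subtype
  have hXT : X ≤ T := Subgroup.map_subtype_le _
  have hXC : X ≤ C := hXT.trans hTC
  have hX5 : IsPGroup 5 X := S.isPGroup'.map _
  have hXmax : ∀ x ∈ T, ∀ k : ℕ, x ^ 5 ^ k = 1 → x ∈ X := by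
    intro x hx k hk
    have hp : IsPGroup 5 (Subgroup.zpowers (⟨x, hx⟩ : T)) :=
      IsPGroup.of_card_dvd_pow (n := k) (by
        rw [Nat.card_zpowers]
        exact orderOf_dvd_of_pow_eq_one (Subtype.ext hk))
    obtain ⟨P, hP⟩ := hp.exists_le_sylow
    obtain ⟨g, hg⟩ := MulAction.exists_smul_eq T S P
    have h1 : (⟨x, hx⟩ : T) ∈ ((g • S : Sylow 5 T) : Subgroup T) := by
      rw [hg]; exact hP (Subgroup.mem_zpowers _)
    rw [CfsgLib.Transfer.mem_smul_sylow,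
      show g⁻¹ * (⟨x, hx⟩ : T) * g = ⟨x, hx⟩ from Subtype.ext (by
        show (g : GL chevE7.Idx L)⁻¹ * x * g = x
        rw [mul_assoc, certE7.diagonal_comm hx g.2, inv_mul_cancel_left])] at h1
    exact ⟨_, h1, rfl⟩
  -- a regular element
  obtain ⟨ω, hω⟩ : ∃ ω : Lˣ, orderOf ω = 25 := by
    obtain ⟨γ, hγ⟩ := IsCyclic.exists_ofOrder_eq_natCard (α := Lˣ)
    exact ⟨_, orderOf_pow_orderOf_div (orderOf_pos γ).ne' (hγ ▸ h25)⟩
  set v := kKE7 *ᵥ fun _ => (1 : ℤ)
  set s := Cert.torusHom (D := chevE7) (T := tabE7) fun i => ω ^ v i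
  have hsT : s ∈ T := certE7.range_torusHom.le ⟨_, rfl⟩
  have hsX : s ∈ X := hXmax s hsT 2 (by
    show Cert.torusHom (D := chevE7) (T := tabE7) (fun i => ω ^ v i) ^ 5 ^ 2 = 1
    rw [← map_pow, show (fun i => ω ^ v i) ^ 5 ^ 2 = 1 from funext fun i => by
      rw [Pi.pow_apply, ← zpow_natCast, ← _root_.zpow_mul, mul_comm, _root_.zpow_mul, zpow_natCast,
        show 5 ^ 2 = orderOf ω from hω.symm, pow_orderOf_eq_one, _root_.one_zpow, Pi.one_apply],
      map_one])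
  have hreg : ∀ r < tabE7.n, charOf tabE7 (Cert.extC tabE7 fun i => ω ^ v i) r ≠ 1 := by
    intro r hr e1
    rw [charOf_zpow, Units.val_eq_one, ← orderOf_dvd_iff_zpow_eq_one, hω] at e1
    exact regular_vec r hr (Int.emod_eq_zero_of_dvd e1)
  -- a Sylow subgroup of the centralizer
  have hp5 : IsPGroup 5 (X.subgroupOf C) := hX5.comap_of_injective _ C.subtype_injective
  obtain ⟨P, hP⟩ := hp5.exists_le_sylow
  set Y := (P : Subgroup C).map C.subtype
  have hXY : X ≤ Y := fun x hx => ⟨⟨x, hXC hx⟩, hP hx, rfl⟩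
  have hlt : X < Y := by
    refine lt_of_le_of_ne hXY fun e => P.not_dvd_index ?_
    have h1 : (P : Subgroup C).index = X.relIndex C := by
      rw [Subgroup.relIndex, Subgroup.subgroupOf, e, Subgroup.comap_map_eq_self_of_injective
        C.subtype_injective]
    rw [h1, ← Subgroup.relIndex_mul_relIndex X T C hXT hTC]
    exact hdv.mul_left _
  obtain ⟨p, hp, hpX⟩ := SetLike.exists_of_lt
    (CfsgLib.Transfer.lt_inf_normalizer (p := 5) (P.isPGroup'.map _) hlt)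
  obtain ⟨hpY, hpn⟩ := Subgroup.mem_inf.1 hp
  have hpC : p ∈ C := (Subgroup.map_subtype_le _) hpY
  obtain ⟨k, hk⟩ := (P.isPGroup'.map C.subtype) ⟨p, hpY⟩
  have hk : p ^ 5 ^ k = 1 := congrArg Subtype.val hk
  have hpT : p ∉ T := fun hh => hpX (hXmax p hh k hk)
  have hpN : p ∈ N := by
    obtain ⟨n, hn, hnc⟩ := diag_fusion certE7 (hmemC.1 hpC).1
    have hps : p * s * p⁻¹ ∈ T := hXT ((Subgroup.mem_normalizer_iff.1 hpn s).1 hsX)
    have h1 := hnc s hsT _ hps rfl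
    have h2 : n⁻¹ * p ∈ N := mem_monomial_of_commute certE7
      (c := Cert.extC tabE7 fun i => ω ^ v i) (fun i _ => Cert.extC_ne_zero _ i) (k := s) rfl hreg
      (mul_mem (certE7.monomial_le_group (inv_mem hn)) (hmemC.1 hpC).1) (by
        have h3 : p * s * p⁻¹ = n * s * n⁻¹ := h1.symm
        calc s * (n⁻¹ * p) = n⁻¹ * (n * s * n⁻¹) * p := by group
          _ = n⁻¹ * (p * s * p⁻¹) * p := by rw [h3]
          _ = n⁻¹ * p * s := by group)
    have := mul_mem hn h2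
    rwa [mul_inv_cancel_left] at this
  -- the Weyl group
  obtain ⟨φ, -, hker, -⟩ := exists_monomial_weylE7 L
  haveI : Finite (CoxeterMatrix.Group CoxeterMatrix.E₇) :=
    Nat.finite_of_card_ne_zero (by rw [card_coxeterE7]; norm_num)
  have hker' : ∀ x : ↥N, φ x = 1 ↔ (x : GL chevE7.Idx L) ∈ T := fun x => by
    rw [← MonoidHom.mem_ker, hker, Subgroup.mem_subgroupOf]
  set H := (C.subgroupOf N).map φ
  have hpH : φ ⟨p, hpN⟩ ∈ H := ⟨⟨p, hpN⟩, hpC, rfl⟩
  obtain ⟨a, ha, hao⟩ : ∃ a ∈ H, orderOf a = 5 := by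
    have h1 : φ ⟨p, hpN⟩ ^ 5 ^ k = 1 := by
      rw [← map_pow, show (⟨p, hpN⟩ : ↥N) ^ 5 ^ k = 1 from Subtype.ext hk, map_one]
    obtain ⟨j, -, hj⟩ := (Nat.dvd_prime_pow (by norm_num : Nat.Prime 5)).1
      (orderOf_dvd_of_pow_eq_one h1)
    have hj0 : j ≠ 0 := fun h0 => hpT ((hker' ⟨p, hpN⟩).1 (orderOf_eq_one_iff.1 (by rw [hj, h0]; rfl)))
    refine ⟨_, pow_mem hpH (orderOf (φ ⟨p, hpN⟩) / 5), orderOf_pow_orderOf_div
      (by rw [hj]; positivity) (by rw [hj]; exact dvd_pow_self _ hj0)⟩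
  -- moving the element of order five back
  set w₀ := φ ⟨n₀, hn₀⟩
  have hconj : w₀⁻¹ * a * w₀ ∈ H := by
    obtain ⟨x, hx, rfl⟩ := ha
    refine ⟨(⟨n₀, hn₀⟩ : ↥N)⁻¹ * x * ⟨n₀, hn₀⟩, ?_, by rw [map_mul, map_mul, map_inv]⟩
    rw [SetLike.mem_coe, Subgroup.mem_subgroupOf] at hx ⊢
    show n₀⁻¹ * (x : GL chevE7.Idx L) * n₀ ∈ C
    refine hmemC.2 ⟨mul_mem (mul_mem (inv_mem (certE7.monomial_le_group hn₀)) (hmemC.1 hx).1)
      (certE7.monomial_le_group hn₀), ?_⟩
    have hx2 : Commute (x : GL chevE7.Idx L) t := (hmemC.1 hx).2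
    have h2 : t ^ 2 = n₀⁻¹ * t * n₀ := by
      conv_rhs => rw [← hn₀t]
      group
    have ht7 : t = (t ^ 2) ^ 7 := by
      rw [← pow_mul, show 2 * 7 = orderOf t + 1 by rw [hto], pow_succ, pow_orderOf_eq_one, one_mul]
    have h3 : Commute (n₀⁻¹ * (x : GL chevE7.Idx L) * n₀) (t ^ 2) := by
      rw [h2]
      show _ = _
      calc _ = n₀⁻¹ * ((x : GL chevE7.Idx L) * t) * n₀ := by group
        _ = n₀⁻¹ * (t * (x : GL chevE7.Idx L)) * n₀ := by rw [hx2.eq]
        _ = _ := by group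
    have h4 := h3.pow_right 7
    rw [← ht7] at h4
    exact h4.eq
  have hH25 : ¬ 5 ∣ (Subgroup.zpowers a).relIndex H := by
    intro hd
    have h1 : 5 * 5 ∣ Nat.card H := by
      rw [← Subgroup.card_mul_index ((Subgroup.zpowers a).subgroupOf H),
        Nat.card_congr (Subgroup.subgroupOfEquivOfLe (Subgroup.zpowers_le.2 ha)).toEquiv,
        Nat.card_zpowers, hao]
      exact Nat.mul_dvd_mul_left 5 hd
    have h2 := h1.trans (Subgroup.card_subgroup_dvd_card H)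
    rw [card_coxeterE7] at h2
    norm_num at h2
  have hoconj : orderOf (w₀⁻¹ * a * w₀) = 5 := by
    have := orderOf_injective (MulAut.conj w₀⁻¹).toMonoidHom (MulAut.conj w₀⁻¹).injective a
    simp only [MulEquiv.coe_toMonoidHom, MulAut.conj_apply, inv_inv] at this
    rw [this, hao]
  obtain ⟨e, he, hle⟩ := CfsgLib.Transfer.exists_conj_le_of_not_dvd_relIndex
    (Subgroup.zpowers_le.2 ha) (IsPGroup.of_card (n := 1) (by rw [Nat.card_zpowers, hao, pow_one]))
    hH25 (Y := Subgroup.zpowers (w₀⁻¹ * a * w₀)) (Subgroup.zpowers_le.2 hconj)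
    (IsPGroup.of_card (n := 1) (by rw [Nat.card_zpowers, hoconj, pow_one]))
  obtain ⟨j, hj⟩ : ∃ j : ℕ, a ^ j = e * (w₀⁻¹ * a * w₀) * e⁻¹ :=
    ((mem_powers_iff_mem_zpowers (x := a)).2
      (hle ⟨_, Subgroup.mem_zpowers _, rfl⟩))
  -- lifting
  obtain ⟨b, hb, hba⟩ := ha
  obtain ⟨f, hf, hfe⟩ := he
  set m : ↥N := ⟨n₀, hn₀⟩ * f⁻¹
  have hφm : φ m⁻¹ * φ b * φ m = φ b ^ j := by
    rw [hba, hj, map_inv, map_mul, map_inv, hfe]
    group
    rfl
  have hfC : (f : GL chevE7.Idx L) ∈ C := hf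
  have hmt : (m : GL chevE7.Idx L) * t ^ 2 * (m : GL chevE7.Idx L)⁻¹ = t := by
    have h1 : Commute (f : GL chevE7.Idx L) t := (hmemC.1 hfC).2
    have h2 : (f : GL chevE7.Idx L)⁻¹ * t ^ 2 * f = t ^ 2 := by
      rw [mul_assoc, ← (h1.pow_right 2).eq, inv_mul_cancel_left]
    show n₀ * (f : GL chevE7.Idx L)⁻¹ * t ^ 2 * (n₀ * (f : GL chevE7.Idx L)⁻¹)⁻¹ = t
    calc _ = n₀ * ((f : GL chevE7.Idx L)⁻¹ * t ^ 2 * f) * n₀⁻¹ := by group
      _ = t := by rw [h2, hn₀t]
  -- matrices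
  obtain ⟨wA, hwA, hA⟩ := exists_acts_word certE7 m.2
  obtain ⟨B, hBa⟩ := exists_acts certE7 b.2
  set A := (wA.map (reflMat tabE7)).prod
  obtain ⟨nA, hnA, hAn⟩ := acts_finite_order' certE7 (by norm_num : (2 : ℤ) ≠ 0) evE7.inv hA
  obtain ⟨c, hc, hce⟩ := eigen_of_conj (r := 13) (by norm_num) h13 ht hto m.2 hA hmt
  have hb5 : (b : GL chevE7.Idx L) ^ 5 ∈ T := by
    have := (hker' (b ^ 5)).1 (by rw [map_pow, hba, ← hao, pow_orderOf_eq_one])
    exact this
  have uniq : ∀ {g : GL chevE7.Idx L} {U V : Matrix (Fin tabE7.l) (Fin tabE7.l) ℤ},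
      Acts chevE7 tabE7 g U → Acts chevE7 tabE7 g V → U = V := fun hU hV =>
    CycTorus.acts_unique_of certE7 (δ := 2) (by norm_num) (Mi := kKE7) evE7.inv hU hV
  have hB5 : B ^ 5 = 1 := uniq (acts_pow certE7 hBa 5) (acts_diagonal certE7 hb5)
  have hB1 : B.map (Int.castRingHom (ZMod 13)) ≠ 1 := fun h1 => by
    have h2 : φ b = 1 := (hker' b).2 (mem_diagonal_of_congr b.2 hBa h1)
    rw [hba] at h2
    rw [h2, orderOf_one] at hao
    norm_num at hao
  -- the relation between the matrices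
  have hrel : B * A = A * B ^ j := by
    have hd : (⟨_, (b * m).2⟩ : ↥N) = b * m := rfl
    have h1 : φ (b * m) = φ (m * b ^ j) := by
      rw [map_mul φ b m, map_mul φ m (b ^ j), map_pow, ← hφm, map_inv]; group
    have h2 : ((m * b ^ j)⁻¹ * (b * m) : ↥N).1 ∈ T := (hker' _).1 (by
      rw [map_mul, map_inv, h1, inv_mul_cancel])
    have h3 := acts_mul hBa hA
    have h4 := acts_mul (acts_mul hA (acts_pow certE7 hBa j)) (acts_diagonal certE7 h2)
    rw [Matrix.mul_one] at h4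
    refine uniq h3 ?_
    have e : (m : GL chevE7.Idx L) * (b : GL chevE7.Idx L) ^ j *
        (((m * b ^ j)⁻¹ * (b * m) : ↥N) : GL chevE7.Idx L) = (b : GL chevE7.Idx L) * m := by
      push_cast
      group
    rw [← e]
    exact h4
  have hpow : ∀ i : ℕ, B * A ^ i = A ^ i * B ^ j ^ i := by
    intro i
    induction i with
    | zero => simp
    | succ i ih =>
      have hBi : ∀ l : ℕ, B ^ l * A = A * B ^ (j * l) := by
        intro l
        induction l with
        | zero => simp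
        | succ l ih' =>
          rw [pow_succ', mul_assoc, ih', ← mul_assoc, hrel, mul_assoc, ← pow_add]
          congr 2
          ring
      rw [pow_succ, ← mul_assoc, ih, mul_assoc, hBi, ← mul_assoc, ← pow_succ, pow_succ' j]
  have hj4 : B ^ j ^ 4 = B := by
    have hj5 : j % 5 ≠ 0 := fun h0 => by
      have h1 : a ^ j = 1 := orderOf_dvd_iff_pow_eq_one.1 (hao ▸ Nat.dvd_of_mod_eq_zero h0)
      rw [hj, conj_eq_one_iff] at h1
      rw [h1, orderOf_one] at hoconj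
      norm_num at hoconj
    have h1 : j ^ 4 % 5 = 1 := by
      have key : ∀ x < 5, x ≠ 0 → x ^ 4 % 5 = 1 := by decide
      rw [Nat.pow_mod]
      exact key _ (Nat.mod_lt _ (by norm_num)) hj5
    rw [← Nat.div_add_mod (j ^ 4) 5, h1, pow_add, pow_mul, hB5, one_pow, one_mul, pow_one]
  exact no_commute hwA hnA hAn hc hce hB5 hB1 (by
    show A ^ 4 * B = B * A ^ 4
    rw [hpow 4, hj4])

end CfsgLib.Chev.E7SixtyFive
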