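import Cfsg.Agent.Lib.Chev.E7SixtyFive.Eigen
import Cfsg.Agent.Lib.Chev.SylowTorus.Bound

/-!
Weyl group elements of type E7 with eigenvalues of order twelve modulo thirteen.
-/

set_option autoImplicit false
set_option maxRecDepth 100000
set_option maxHeartbeats 1000000

namespace CfsgLib.Chev.E7SixtyFive

open Matrix Polynomial CfsgLib.Chev CfsgLib.Chev.GTorus CfsgLib.Chev.SylowTorus

local instance wFactPrime1 : Fact (Nat.Prime 13) := ⟨by norm_num⟩
local instance wFactPrime2 : Fact (Nat.Prime 5) := ⟨by norm_num⟩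

theorem orderOf_two_thirteen : orderOf (2 : ZMod 13) = 12 := by
  have key : (2 : ZMod 13) ^ 12 = 1 ∧ ∀ m < 12, 0 < m → (2 : ZMod 13) ^ m ≠ 1 := by decide
  exact (orderOf_eq_iff (by norm_num)).2 key

theorem orderOf_two_five : orderOf (2 : ZMod 5) = 4 := by
  have key : (2 : ZMod 5) ^ 4 = 1 ∧ ∀ m < 4, 0 < m → (2 : ZMod 5) ^ m ≠ 1 := by decide
  exact (orderOf_eq_iff (by norm_num)).2 key

theorem orderOf_eight_thirteen : orderOf (8 : ZMod 13) = 4 := by
  have key : (8 : ZMod 13) ^ 4 = 1 ∧ ∀ m < 4, 0 < m → (8 : ZMod 13) ^ m ≠ 1 := by decide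
  exact (orderOf_eq_iff (by norm_num)).2 key

variable {M : Matrix (Fin tabE7.l) (Fin tabE7.l) ℤ} {r : ℕ} [Fact r.Prime]

theorem det_of_vecMul {a : ZMod r} {c : Fin tabE7.l → ZMod r} (hc : c ≠ 0)
    (he : c ᵥ* M.map (Int.castRingHom (ZMod r)) = a • c) :
    (Matrix.scalar (Fin tabE7.l) a - M.map (Int.castRingHom (ZMod r))).det = 0 :=
  Matrix.exists_vecMul_eq_zero_iff.1 ⟨c, hc, by
    rw [Matrix.vecMul_sub, he, Matrix.scalar_apply, ← Matrix.smul_one_eq_diagonal, Matrix.vecMul_smul,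
      Matrix.vecMul_one, sub_self]⟩

theorem cyclotomic_dvd_of_vecMul {n : ℕ} (hn : 0 < n) (hM : M ^ n = 1) {a : ZMod r} (ha : a ≠ 0)
    (hl : tabE7.l < (orderOf a).totient * (r - 1)) {c : Fin tabE7.l → ZMod r} (hc : c ≠ 0)
    (he : c ᵥ* M.map (Int.castRingHom (ZMod r)) = a • c) :
    cyclotomic (orderOf a) ℤ ∣ M.charpoly := by
  obtain ⟨k, R, hR, -, -, -, hle⟩ := exists_mult hn hM ha (wild_of_totient ha hl)
  have h1 : 0 < (M.charpoly.map (Int.castRingHom (ZMod r))).rootMultiplicity a := by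
    rw [Polynomial.rootMultiplicity_pos ((charpoly_monic M).map _).ne_zero, IsRoot,
      ← Matrix.charpoly_map, Matrix.eval_charpoly]
    exact det_of_vecMul hc he
  rw [hR]
  exact (dvd_pow_self _ (by omega : k ≠ 0)).mul_right _

theorem det_of_cyclotomic {d : ℕ} (hd : cyclotomic d ℤ ∣ M.charpoly) {b : ZMod 13}
    (hb : orderOf b = d) (hd0 : ((d : ℕ) : ZMod 13) ≠ 0) :
    (Matrix.scalar (Fin tabE7.l) b - M.map (Int.castRingHom (ZMod 13))).det = 0 := by
  rw [← Matrix.eval_charpoly, Matrix.charpoly_map]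
  obtain ⟨R, hR⟩ := hd
  rw [hR, Polynomial.map_mul, map_cyclotomic, eval_mul]
  haveI : NeZero ((d : ℕ) : ZMod 13) := ⟨hd0⟩
  rw [(isRoot_cyclotomic_iff.2 (IsPrimitiveRoot.iff_orderOf.2 hb)).eq_zero, zero_mul]

/-- An eigenvalue of order four modulo five excludes one of order twelve modulo thirteen. -/
theorem no_both {w : List ℕ} (hw : WordOK tabE7 w) {n : ℕ} (hn : 0 < n)
    (hM : (w.map (reflMat tabE7)).prod ^ n = 1)
    {c : Fin tabE7.l → ZMod 13} (hc : c ≠ 0)
    (he : c ᵥ* (w.map (reflMat tabE7)).prod.map (Int.castRingHom (ZMod 13)) = (2 : ZMod 13) • c)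
    {c' : Fin tabE7.l → ZMod 5} (hc' : c' ≠ 0)
    (he' : c' ᵥ* (w.map (reflMat tabE7)).prod.map (Int.castRingHom (ZMod 5)) = (2 : ZMod 5) • c') :
    False := by
  classical
  set M := (w.map (reflMat tabE7)).prod with hMdef
  have h12 : cyclotomic 12 ℤ ∣ M.charpoly := by
    have := cyclotomic_dvd_of_vecMul hn hM (a := (2 : ZMod 13)) (by decide)
      (by rw [orderOf_two_thirteen]; decide +kernel) hc he
    rwa [orderOf_two_thirteen] at this
  have h4 : cyclotomic 4 ℤ ∣ M.charpoly := by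
    have := cyclotomic_dvd_of_vecMul hn hM (a := (2 : ZMod 5)) (by decide)
      (by rw [orderOf_two_five]; decide +kernel) hc' he'
    rwa [orderOf_two_five] at this
  have hw3 : WordOK tabE7 (w ++ w ++ w) := fun i hi => by
    simp only [List.mem_append, or_self] at hi
    exact hw i hi
  have hM3 : ((w ++ w ++ w).map (reflMat tabE7)).prod = M ^ 3 := by
    simp only [List.map_append, List.prod_append, pow_three]
    rw [← hMdef, mul_assoc]
  have hb := boundE7 (r := 13) hw3 hn (by rw [hM3, ← pow_mul, mul_comm, pow_mul, hM, one_pow])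
    (a := (8 : ZMod 13)) (by decide) orderOf_eight_thirteen (by norm_num)
  rw [hM3] at hb
  set A := (M.map (Int.castRingHom (ZMod 13)))ᵀ
  have hev : ∀ b : ZMod 13, (Matrix.scalar (Fin tabE7.l) b - M.map (Int.castRingHom (ZMod 13))).det = 0 →
      ∃ x, Module.End.HasEigenvector (Matrix.toLin' A) b x := by
    intro b hb0
    obtain ⟨x, hx, e⟩ := Matrix.exists_vecMul_eq_zero_iff.2 hb0
    refine ⟨x, Module.End.hasEigenvector_iff.2 ⟨Module.End.mem_eigenspace_iff.2 ?_, hx⟩⟩
    rw [Matrix.vecMul_sub, sub_eq_zero, Matrix.scalar_apply, ← Matrix.smul_one_eq_diagonal,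
      Matrix.vecMul_smul, Matrix.vecMul_one] at e
    rw [Matrix.toLin'_apply, Matrix.mulVec_transpose, ← e]
  let bs : Fin 3 → ZMod 13 := ![2, 6, 5]
  have hbs : ∀ i, ∃ x, Module.End.HasEigenvector (Matrix.toLin' A) (bs i) x := by
    intro i
    refine hev _ ?_
    have key : (6 : ZMod 13) ^ 12 = 1 ∧ ∀ m < 12, 0 < m → (6 : ZMod 13) ^ m ≠ 1 := by decide
    have key' : (5 : ZMod 13) ^ 4 = 1 ∧ ∀ m < 4, 0 < m → (5 : ZMod 13) ^ m ≠ 1 := by decide
    fin_cases i
    · exact det_of_cyclotomic h12 orderOf_two_thirteen (by decide)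
    · exact det_of_cyclotomic h12 ((orderOf_eq_iff (by norm_num)).2 key) (by decide)
    · exact det_of_cyclotomic h4 ((orderOf_eq_iff (by norm_num)).2 key') (by decide)
  choose xs hxs using hbs
  have hi : LinearIndependent (ZMod 13) xs :=
    Module.End.eigenvectors_linearIndependent' _ bs (by decide) xs hxs
  have hle : Submodule.span (ZMod 13) (Set.range xs) ≤
      Module.End.eigenspace (Matrix.toLin' (A ^ 3)) 8 := by
    refine Submodule.span_le.2 ?_
    rintro _ ⟨i, rfl⟩
    rw [SetLike.mem_coe, Module.End.mem_eigenspace_iff, Matrix.toLin'_pow]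
    rw [pow_apply_of_eigen (hxs i).apply_eq_smul]
    congr 1
    revert i
    decide
  have h3 := (Submodule.finrank_mono hle).trans (LinearMap.finrank_eigenspace_le _ _)
  rw [finrank_span_eq_card hi, Fintype.card_fin, Matrix.charpoly_toLin'] at h3
  have hA3 : (A ^ 3).charpoly = ((M ^ 3).charpoly).map (Int.castRingHom (ZMod 13)) := by
    rw [← Matrix.transpose_pow, Matrix.charpoly_transpose, ← Matrix.map_pow, Matrix.charpoly_map]
  rw [hA3] at h3
  omega

/-- An element with eigenvalue two modulo thirteen has no fourth power commuting with an element of order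
five. -/
theorem no_commute {w : List ℕ} (hw : WordOK tabE7 w) {n : ℕ} (hn : 0 < n)
    (hM : (w.map (reflMat tabE7)).prod ^ n = 1)
    {c : Fin tabE7.l → ZMod 13} (hc : c ≠ 0)
    (he : c ᵥ* (w.map (reflMat tabE7)).prod.map (Int.castRingHom (ZMod 13)) = (2 : ZMod 13) • c)
    {B : Matrix (Fin tabE7.l) (Fin tabE7.l) ℤ} (hB : B ^ 5 = 1)
    (hB1 : B.map (Int.castRingHom (ZMod 13)) ≠ 1)
    (hcom : Commute ((w.map (reflMat tabE7)).prod ^ 4) B) : False := by
  set M := (w.map (reflMat tabE7)).prod with hMdef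
  let φ : Matrix (Fin tabE7.l) (Fin tabE7.l) ℤ →+* Matrix (Fin tabE7.l) (Fin tabE7.l) (ZMod 13) :=
    (Int.castRingHom (ZMod 13)).mapMatrix
  have h12 : cyclotomic 12 ℤ ∣ M.charpoly := by
    have := cyclotomic_dvd_of_vecMul hn hM (a := (2 : ZMod 13)) (by decide)
      (by rw [orderOf_two_thirteen]; decide +kernel) hc he
    rwa [orderOf_two_thirteen] at this
  have key : (11 : ZMod 13) ^ 12 = 1 ∧ ∀ m < 12, 0 < m → (11 : ZMod 13) ^ m ≠ 1 := by decide
  have hdt : ∀ a : ZMod 13,
      (Matrix.scalar (Fin tabE7.l) a - φ M).det = 0 →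
      (Matrix.scalar (Fin tabE7.l) a - (φ M)ᵀ).det = 0 := by
    intro a h
    rw [← h, ← Matrix.det_transpose (Matrix.scalar (Fin tabE7.l) a - φ M), Matrix.transpose_sub,
      Matrix.scalar_apply, Matrix.diagonal_transpose]
  refine no_five' (l := tabE7.l) rfl (P := (φ M)ᵀ) (B := (φ B)ᵀ) (K := φ kKE7) ?_ ?_
    (hdt 2 (det_of_vecMul hc he))
    (hdt 11 (det_of_cyclotomic h12 ((orderOf_eq_iff (by norm_num)).2 key) (by decide))) ?_ ?_ ?_
  · intro h0
    have h1 := congrArg Matrix.det (congrArg φ evE7.inv)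
    rw [map_mul, Matrix.det_mul, h0, zero_mul, map_zsmul, map_one] at h1
    revert h1
    simp only [← Int.cast_smul_eq_zsmul (ZMod 13), Matrix.det_smul, Matrix.det_one, mul_one,
      Fintype.card_fin]
    decide +kernel
  · have h1 := congrArg φ (iso_word refl_isoE7 hw).1
    rw [map_mul, map_mul] at h1
    rw [Matrix.transpose_transpose]
    exact h1
  · rw [← Matrix.transpose_pow, ← map_pow, hB, map_one, Matrix.transpose_one]
  · intro h0
    exact hB1 (Matrix.transpose_eq_one.1 h0)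
  · rw [← Matrix.transpose_pow, ← Matrix.transpose_mul, ← Matrix.transpose_mul, ← map_pow, ← map_mul,
      ← map_mul, hcom.eq]

end CfsgLib.Chev.E7SixtyFive
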